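import Groth.Agent.ShfGrp.Quotient
import Mathlib.CategoryTheory.Monoidal.Cartesian.Grp
import Mathlib.Tactic.Group

/-! # The group structure on the quotient by a normal subgroup sheaf -/

set_option autoImplicit false
set_option linter.all false
set_option backward.isDefEq.respectTransparency false
set_option backward.defeqAttrib.useBackward true

universe w v₁ u₁

open CategoryTheory CategoryTheory.Limits MonoidalCategory Opposite
open MonObj CartesianMonoidalCategory SemiCartesianMonoidalCategory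

namespace Groth.Agent.ShfGrp

variable {C : Type u₁} [Category.{v₁} C] {J : GrothendieckTopology C} [HasSheafify J (Type w)]

theorem existsUnique_grpObj {H G : Sheaf J (Type w)} [hG : GrpObj G] (u : H ⟶ G)
    (hn : ∀ (Y : Sheaf J (Type w)) (g : Y ⟶ G) (h : Y ⟶ H), ∃ h' : Y ⟶ H, g * (h ≫ u) * g⁻¹ = h' ≫ u) :
    ∃! str : GrpObj (coequalizer (fst G H) ((G ◁ u) ≫ hG.mul)),
      @IsMonHom (Sheaf J (Type w)) _ _ G (coequalizer (fst G H) ((G ◁ u) ≫ hG.mul)) hG.toMonObj str.toMonObj
        (coequalizer.π (fst G H) ((G ◁ u) ≫ hG.mul)) := by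
  let π := coequalizer.π (fst G H) ((G ◁ u) ≫ hG.mul)
  haveI := fun Y : Sheaf J (Type w) => sheaf_tensorLeft_preserves Y
  have hπ : ∀ {Y : Sheaf J (Type w)} (x : Y ⟶ G) (h : Y ⟶ H), (x * (h ≫ u)) ≫ π = x ≫ π := fun {Y} x h => by
    have := congrArg (lift x h ≫ ·) (coequalizer.condition (fst G H) ((G ◁ u) ≫ hG.mul))
    simp only [lift_fst_assoc, lift_whiskerLeft_assoc, Category.assoc] at this
    rw [Hom.mul_def, Category.assoc]
    exact this.symm
  have hπ' : ∀ {Y : Sheaf J (Type w)} (x : Y ⟶ G) (h : Y ⟶ H), ((h ≫ u) * x) ≫ π = x ≫ π := fun {Y} x h => by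
    obtain ⟨h', hh⟩ := hn Y x⁻¹ h
    rw [inv_inv] at hh
    rw [show (h ≫ u) * x = x * (h' ≫ u) by rw [← hh]; group, hπ]
  have hπ'' : ∀ {Y : Sheaf J (Type w)} (a b : Y ⟶ G) (h : Y ⟶ H), ((a * (h ≫ u)) * b) ≫ π = (a * b) ≫ π := fun {Y} a b h => by
    obtain ⟨h', hh⟩ := hn Y b⁻¹ h
    rw [inv_inv] at hh
    rw [show a * (h ≫ u) * b = (a * b) * (h' ≫ u) by rw [← hh]; group, hπ]
  have hepi : ∀ Y : Sheaf J (Type w), Epi (Y ◁ π) := fun Y =>
    inferInstanceAs (Epi ((tensorLeft Y).map (coequalizer.π _ _)))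
  have hepi' : ∀ Y : Sheaf J (Type w), Epi (π ▷ Y) := fun Y => by
    haveI := hepi Y
    have h1 : π ▷ Y = (β_ _ _).hom ≫ (Y ◁ π) ≫ (β_ _ _).hom := by
      apply CartesianMonoidalCategory.hom_ext <;> simp only [Category.assoc, whiskerRight_fst, whiskerRight_snd, whiskerLeft_fst, whiskerLeft_snd, whiskerRight_fst_assoc, whiskerRight_snd_assoc, whiskerLeft_fst_assoc, whiskerLeft_snd_assoc, tensorHom_fst, tensorHom_snd, lift_fst, lift_snd, lift_fst_assoc, lift_snd_assoc, associator_hom_fst, associator_hom_snd_fst, associator_hom_snd_snd, associator_inv_fst_fst, associator_inv_fst_snd, associator_inv_snd, associator_hom_fst_assoc, associator_hom_snd_fst_assoc, associator_hom_snd_snd_assoc, associator_inv_fst_fst_assoc, associator_inv_fst_snd_assoc, associator_inv_snd_assoc, braiding_hom_fst, braiding_hom_snd, braiding_hom_fst_assoc, braiding_hom_snd_assoc, Category.id_comp, Category.comp_id]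
    rw [h1]
    infer_instance
  obtain ⟨act, ⟨-, -, hact⟩, -⟩ := existsUnique_action u
  have hact' : hG.mul ≫ π = (G ◁ π) ≫ act := hact
  let Q := coequalizer (fst G H) ((G ◁ u) ≫ hG.mul)
  haveI : PreservesColimitsOfShape WalkingParallelPair (tensorRight Q) :=
    preservesColimitsOfShape_of_natIso (BraidedCategory.tensorLeftIsoTensorRight Q)
  let hcolR := isColimitOfHasCoequalizerOfPreservesColimit (tensorRight Q) (fst G H) ((G ◁ u) ≫ hG.mul)
  have hA : ∀ {Y : Sheaf J (Type w)} (a b : Y ⟶ G), lift a (b ≫ π) ≫ act = (a * b) ≫ π := fun {Y} a b => by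
    rw [← lift_whiskerLeft, Category.assoc, ← hact', Hom.mul_def, Category.assoc]
  have hw : (fst G H ▷ Q) ≫ act = (((G ◁ u) ≫ hG.mul) ▷ Q) ≫ act := by
    haveI := hepi (G ⊗ H)
    rw [← cancel_epi ((G ⊗ H) ◁ π), whisker_exchange_assoc, whisker_exchange_assoc, ← hact']
    have e : ∀ (z : G ⊗ H ⟶ G), (z ▷ G) ≫ hG.mul ≫ π = ((fst (G ⊗ H) G ≫ z) * snd (G ⊗ H) G) ≫ π := fun z => by
      rw [Hom.mul_def, Category.assoc]
      congr 1
    rw [e, e]
    have e2 : fst (G ⊗ H) G ≫ (G ◁ u) ≫ hG.mul =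
        (fst (G ⊗ H) G ≫ fst G H) * ((fst (G ⊗ H) G ≫ snd G H) ≫ u) := by
      rw [Hom.mul_def, ← Category.assoc]
      congr 1
    rw [e2, hπ'']
  let m : Q ⊗ Q ⟶ Q := Cofork.IsColimit.desc hcolR act hw
  have hm : (π ▷ Q) ≫ m = act := Cofork.IsColimit.π_desc' hcolR _ hw
  have hM : ∀ {Y : Sheaf J (Type w)} (a b : Y ⟶ G), lift (a ≫ π) (b ≫ π) ≫ m = (a * b) ≫ π := fun {Y} a b => by
    rw [← lift_whiskerRight, Category.assoc, hm, hA]
  have hinvw : fst G H ≫ (GrpObj.inv (X := G) ≫ π) = ((G ◁ u) ≫ hG.mul) ≫ (GrpObj.inv (X := G) ≫ π) := by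
    have e : (G ◁ u) ≫ hG.mul = fst G H * (snd G H ≫ u) := by
      rw [Hom.mul_def]
      congr 1
    rw [← Category.assoc (fst G H), ← Category.assoc ((G ◁ u) ≫ hG.mul), ← Hom.inv_def, ← Hom.inv_def]
    refine Eq.trans ?_ (congrArg (fun z => z⁻¹ ≫ π) e).symm
    rw [mul_inv_rev]
    obtain ⟨h', hh⟩ := hn _ (fst G H) (snd G H)
    have e2 : ((fst G H)⁻¹ * (h' ≫ u)) ≫ π = ((fst G H)⁻¹) ≫ π := hπ _ _
    rw [← hh] at e2
    have e3 : (fst G H)⁻¹ * (fst G H * (snd G H ≫ u) * (fst G H)⁻¹) = (snd G H ≫ u) * (fst G H)⁻¹ := by group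
    rw [e3, hπ'] at e2
    have e4 := hπ' ((snd G H ≫ u)⁻¹ * (fst G H)⁻¹) (snd G H)
    rw [mul_inv_cancel_left] at e4
    exact e4
  let iQ : Q ⟶ Q := coequalizer.desc (GrpObj.inv (X := G) ≫ π) hinvw
  have hI : ∀ {Y : Sheaf J (Type w)} (a : Y ⟶ G), (a ≫ π) ≫ iQ = a⁻¹ ≫ π := fun {Y} a => by
    rw [Category.assoc, coequalizer.π_desc, Hom.inv_def, Category.assoc]
  let e : 𝟙_ _ ⟶ Q := hG.one ≫ π
  have hone : ∀ (Y : Sheaf J (Type w)), toUnit Y ≫ e = (1 : Y ⟶ G) ≫ π := fun Y => by
    rw [Hom.one_def, Category.assoc]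
  let mon : MonObj Q :=
    { one := e
      mul := m
      one_mul := by
        haveI := hepi (𝟙_ (Sheaf J (Type w)))
        rw [← cancel_epi ((𝟙_ _) ◁ π)]
        have h1 : ((𝟙_ _) ◁ π) ≫ (e ▷ Q) = lift ((1 : _ ⟶ G) ≫ π) (snd (𝟙_ _) G ≫ π) := by
          rw [← hone]
          apply CartesianMonoidalCategory.hom_ext <;> simp only [Category.assoc, whiskerRight_fst, whiskerRight_snd, whiskerLeft_fst, whiskerLeft_snd, whiskerRight_fst_assoc, whiskerRight_snd_assoc, whiskerLeft_fst_assoc, whiskerLeft_snd_assoc, tensorHom_fst, tensorHom_snd, lift_fst, lift_snd, lift_fst_assoc, lift_snd_assoc, associator_hom_fst, associator_hom_snd_fst, associator_hom_snd_snd, associator_inv_fst_fst, associator_inv_fst_snd, associator_inv_snd, associator_hom_fst_assoc, associator_hom_snd_fst_assoc, associator_hom_snd_snd_assoc, associator_inv_fst_fst_assoc, associator_inv_fst_snd_assoc, associator_inv_snd_assoc, braiding_hom_fst, braiding_hom_snd, braiding_hom_fst_assoc, braiding_hom_snd_assoc, Category.id_comp,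 Category.comp_id, Q, π]
          all_goals exact congrArg (· ≫ e) (toUnit_unique _ _)
        rw [← Category.assoc, h1, hM, _root_.one_mul, leftUnitor_hom, whiskerLeft_snd]
      mul_one := by
        haveI := hepi' (𝟙_ (Sheaf J (Type w)))
        rw [← cancel_epi (π ▷ (𝟙_ _))]
        have h1 : (π ▷ (𝟙_ _)) ≫ (Q ◁ e) = lift (fst G (𝟙_ _) ≫ π) ((1 : _ ⟶ G) ≫ π) := by
          rw [← hone]
          apply CartesianMonoidalCategory.hom_ext <;> simp only [Category.assoc, whiskerRight_fst, whiskerRight_snd, whiskerLeft_fst, whiskerLeft_snd, whiskerRight_fst_assoc, whiskerRight_snd_assoc, whiskerLeft_fst_assoc, whiskerLeft_snd_assoc, tensorHom_fst, tensorHom_snd, lift_fst, lift_snd, lift_fst_assoc, lift_snd_assoc, associator_hom_fst, associator_hom_snd_fst, associator_hom_snd_snd, associator_inv_fst_fst, associator_inv_fst_snd, associator_inv_snd, associator_hom_fst_assoc, associator_hom_snd_fst_assoc, associator_hom_snd_snd_assoc, associator_inv_fst_fst_assoc, associator_inv_fst_snd_assoc,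 associator_inv_snd_assoc, braiding_hom_fst, braiding_hom_snd, braiding_hom_fst_assoc, braiding_hom_snd_assoc, Category.id_comp, Category.comp_id, Q, π]
          all_goals exact congrArg (· ≫ e) (toUnit_unique _ _)
        rw [← Category.assoc, h1, hM, _root_.mul_one, rightUnitor_hom, whiskerRight_fst]
      mul_assoc := by
        haveI := hepi' Q
        haveI := hepi' ((G : Sheaf J (Type w)))
        haveI := hepi G
        haveI := hepi (G ⊗ G)
        haveI : Epi ((π ▷ Q) ▷ Q) := by
          haveI : Epi (π ▷ (Q ⊗ Q)) := hepi' _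
          rw [show (π ▷ Q) ▷ Q = (α_ G Q Q).hom ≫ (π ▷ (Q ⊗ Q)) ≫ (α_ Q Q Q).inv by
            apply CartesianMonoidalCategory.hom_ext; apply CartesianMonoidalCategory.hom_ext
            all_goals simp only [Category.assoc, whiskerRight_fst, whiskerRight_snd, whiskerLeft_fst, whiskerLeft_snd, whiskerRight_fst_assoc, whiskerRight_snd_assoc, whiskerLeft_fst_assoc, whiskerLeft_snd_assoc, tensorHom_fst, tensorHom_snd, lift_fst, lift_snd, lift_fst_assoc, lift_snd_assoc, associator_hom_fst, associator_hom_snd_fst, associator_hom_snd_snd, associator_inv_fst_fst, associator_inv_fst_snd, associator_inv_snd, associator_hom_fst_assoc, associator_hom_snd_fst_assoc, associator_hom_snd_snd_assoc, associator_inv_fst_fst_assoc, associator_inv_fst_snd_assoc, associator_inv_snd_assoc, braiding_hom_fst, braiding_hom_snd, braiding_hom_fst_assoc, braiding_hom_snd_assoc, Category.id_comp, Category.comp_id, Q, π]]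
          infer_instance
        haveI : Epi ((G ◁ π) ▷ Q) := by
          haveI : Epi ((G ⊗ Q) ◁ π) := hepi _
          haveI : Epi (G ◁ (π ▷ Q)) := by
            haveI := hepi' Q
            exact Cofork.IsColimit.epi (isColimitCoforkMapOfIsColimit (tensorLeft G) _ hcolR)
          rw [show (G ◁ π) ▷ Q = (α_ G G Q).hom ≫ (G ◁ (π ▷ Q)) ≫ (α_ G Q Q).inv by
            apply CartesianMonoidalCategory.hom_ext; apply CartesianMonoidalCategory.hom_ext
            all_goals simp only [Category.assoc, whiskerRight_fst, whiskerRight_snd, whiskerLeft_fst, whiskerLeft_snd, whiskerRight_fst_assoc, whiskerRight_snd_assoc, whiskerLeft_fst_assoc, whiskerLeft_snd_assoc, tensorHom_fst, tensorHom_snd, lift_fst, lift_snd, lift_fst_assoc, lift_snd_assoc, associator_hom_fst, associator_hom_snd_fst, associator_hom_snd_snd, associator_inv_fst_fst, associator_inv_fst_snd, associator_inv_snd, associator_hom_fst_assoc, associator_hom_snd_fst_assoc, associator_hom_snd_snd_assoc, associator_inv_fst_fst_assoc,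 associator_inv_fst_snd_assoc, associator_inv_snd_assoc, braiding_hom_fst, braiding_hom_snd, braiding_hom_fst_assoc, braiding_hom_snd_assoc, Category.id_comp, Category.comp_id, Q, π]]
          infer_instance
        rw [← cancel_epi ((π ▷ Q) ▷ Q), ← cancel_epi ((G ◁ π) ▷ Q), ← cancel_epi ((G ⊗ G) ◁ π)]
        let a := fst (G ⊗ G) G ≫ fst G G
        let b := fst (G ⊗ G) G ≫ snd G G
        let c := snd (G ⊗ G) G
        have hP : ((G ⊗ G) ◁ π) ≫ ((G ◁ π) ▷ Q) ≫ ((π ▷ Q) ▷ Q) = lift (lift (a ≫ π) (b ≫ π)) (c ≫ π) := by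
          apply CartesianMonoidalCategory.hom_ext
          · apply CartesianMonoidalCategory.hom_ext <;> simp only [Category.assoc, whiskerRight_fst, whiskerRight_snd, whiskerLeft_fst, whiskerLeft_snd, whiskerRight_fst_assoc, whiskerRight_snd_assoc, whiskerLeft_fst_assoc, whiskerLeft_snd_assoc, tensorHom_fst, tensorHom_snd, lift_fst, lift_snd, lift_fst_assoc, lift_snd_assoc, associator_hom_fst, associator_hom_snd_fst, associator_hom_snd_snd, associator_inv_fst_fst, associator_inv_fst_snd, associator_inv_snd, associator_hom_fst_assoc, associator_hom_snd_fst_assoc, associator_hom_snd_snd_assoc, associator_inv_fst_fst_assoc, associator_inv_fst_snd_assoc, associator_inv_snd_assoc, braiding_hom_fst, braiding_hom_snd, braiding_hom_fst_assoc, braiding_hom_snd_assoc, Category.id_comp, Category.comp_id, Q, π, a, b]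
          · simp only [Category.assoc, whiskerRight_fst, whiskerRight_snd, whiskerLeft_fst, whiskerLeft_snd, whiskerRight_fst_assoc, whiskerRight_snd_assoc, whiskerLeft_fst_assoc, whiskerLeft_snd_assoc, tensorHom_fst, tensorHom_snd, lift_fst, lift_snd, lift_fst_assoc, lift_snd_assoc, associator_hom_fst, associator_hom_snd_fst, associator_hom_snd_snd, associator_inv_fst_fst, associator_inv_fst_snd, associator_inv_snd, associator_hom_fst_assoc, associator_hom_snd_fst_assoc, associator_hom_snd_snd_assoc, associator_inv_fst_fst_assoc, associator_inv_fst_snd_assoc, associator_inv_snd_assoc, braiding_hom_fst, braiding_hom_snd, braiding_hom_fst_assoc, braiding_hom_snd_assoc, Category.id_comp, Category.comp_id, Q, π, c]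
        rw [reassoc_of% hP, reassoc_of% hP, lift_whiskerRight_assoc, hM, hM, _root_.mul_assoc]
        rw [← Category.assoc (lift _ _), lift_lift_associator_hom, lift_whiskerLeft_assoc, hM, hM] }
  let str : GrpObj Q :=
    { toMonObj := mon
      inv := iQ
      left_inv := by
        rw [← cancel_epi π]
        show π ≫ lift iQ (𝟙 Q) ≫ m = π ≫ toUnit Q ≫ e
        rw [comp_lift_assoc, Category.comp_id, ← Category.assoc π (toUnit Q), comp_toUnit, hone]
        have h1 := hI (𝟙 G)
        rw [Category.id_comp] at h1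
        rw [h1]
        have h2 := hM (𝟙 G)⁻¹ (𝟙 G)
        rw [Category.id_comp] at h2
        rw [h2, inv_mul_cancel]
      right_inv := by
        rw [← cancel_epi π]
        show π ≫ lift (𝟙 Q) iQ ≫ m = π ≫ toUnit Q ≫ e
        rw [comp_lift_assoc, Category.comp_id, ← Category.assoc π (toUnit Q), comp_toUnit, hone]
        have h1 := hI (𝟙 G)
        rw [Category.id_comp] at h1
        rw [h1]
        have h2 := hM (𝟙 G) (𝟙 G)⁻¹
        rw [Category.id_comp] at h2
        rw [h2, mul_inv_cancel] }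
  have hhom : @IsMonHom (Sheaf J (Type w)) _ _ G Q hG.toMonObj str.toMonObj π := by
    refine @IsMonHom.mk _ _ _ G Q hG.toMonObj str.toMonObj π rfl ?_
    show hG.mul ≫ π = (π ⊗ₘ π) ≫ m
    have h2 := hM (fst G G) (snd G G)
    rw [show (π ⊗ₘ π) = lift (fst G G ≫ π) (snd G G ≫ π) by apply CartesianMonoidalCategory.hom_ext <;> simp only [Category.assoc, whiskerRight_fst, whiskerRight_snd, whiskerLeft_fst, whiskerLeft_snd, whiskerRight_fst_assoc, whiskerRight_snd_assoc, whiskerLeft_fst_assoc, whiskerLeft_snd_assoc, tensorHom_fst, tensorHom_snd, lift_fst, lift_snd, lift_fst_assoc, lift_snd_assoc, associator_hom_fst, associator_hom_snd_fst, associator_hom_snd_snd, associator_inv_fst_fst, associator_inv_fst_snd, associator_inv_snd, associator_hom_fst_assoc, associator_hom_snd_fst_assoc, associator_hom_snd_snd_assoc, associator_inv_fst_fst_assoc, associator_inv_fst_snd_assoc, associator_inv_snd_assoc, braiding_hom_fst, braiding_hom_snd, braiding_hom_fst_assoc, braiding_hom_snd_assoc, Category.id_comp,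 Category.comp_id, Q, π], h2,
      Hom.mul_def, lift_fst_snd, Category.id_comp]
  refine ⟨str, hhom, fun s hs => GrpObj.ext _ _ (MonObj.ext _ _ ?_)⟩
  haveI := hepi' Q
  haveI := hepi G
  rw [← cancel_epi (π ▷ Q), ← cancel_epi (G ◁ π)]
  have h1 : hG.mul ≫ π = (π ⊗ₘ π) ≫ s.mul := hs.mul_hom
  have h2 : hG.mul ≫ π = (π ⊗ₘ π) ≫ m := hhom.mul_hom
  have h3 : (G ◁ π) ≫ (π ▷ Q) = (π ⊗ₘ π) := by
    apply CartesianMonoidalCategory.hom_ext <;> simp only [Category.assoc, whiskerRight_fst, whiskerRight_snd, whiskerLeft_fst, whiskerLeft_snd, whiskerRight_fst_assoc, whiskerRight_snd_assoc, whiskerLeft_fst_assoc, whiskerLeft_snd_assoc, tensorHom_fst, tensorHom_snd, lift_fst, lift_snd, lift_fst_assoc, lift_snd_assoc, associator_hom_fst, associator_hom_snd_fst, associator_hom_snd_snd, associator_inv_fst_fst, associator_inv_fst_snd, associator_inv_snd, associator_hom_fst_assoc, associator_hom_snd_fst_assoc, associator_hom_snd_snd_assoc, associator_inv_fst_fst_assoc, associator_inv_fst_snd_assoc, associator_inv_snd_assoc,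 braiding_hom_fst, braiding_hom_snd, braiding_hom_fst_assoc, braiding_hom_snd_assoc, Category.id_comp, Category.comp_id, Q, π]
  rw [reassoc_of% h3, reassoc_of% h3]
  exact h1.symm.trans h2

end Groth.Agent.ShfGrp
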