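import Groth.Agent.ShfGrp.KernelPair
import Groth.Agent.SiteBase.SubQuot
import Groth.Agent.GrpSch.Cat

/-! # Subgroup sheaves of a quotient -/

set_option autoImplicit false
set_option linter.all false
set_option backward.isDefEq.respectTransparency false
set_option backward.defeqAttrib.useBackward true

universe w v₁ u₁

open CategoryTheory CategoryTheory.Limits MonoidalCategory Opposite
open MonObj CartesianMonoidalCategory SemiCartesianMonoidalCategory

namespace Groth.Agent.ShfGrp

variable {C : Type u₁} [Category.{v₁} C] {J : GrothendieckTopology C} [HasSheafify J (Type w)]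

/-- Closure of a subobject under the group operations. -/
structure IsSubgrp {G : Sheaf J (Type w)} [GrpObj G] (K : Subobject G) : Prop where
  one : ∀ T : Sheaf J (Type w), K.Factors (1 : T ⟶ G)
  mul : ∀ {T : Sheaf J (Type w)} {a b : T ⟶ G}, K.Factors a → K.Factors b → K.Factors (a * b)
  inv : ∀ {T : Sheaf J (Type w)} {a : T ⟶ G}, K.Factors a → K.Factors a⁻¹

theorem isSubgrp_iff {G : Sheaf J (Type w)} [hG : GrpObj G] (K : Subobject G) :
    IsSubgrp K ↔ ∃ str : GrpObj (K : Sheaf J (Type w)),
      @IsMonHom (Sheaf J (Type w)) _ _ _ _ str.toMonObj hG.toMonObj K.arrow := by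
  constructor
  · intro h
    refine GrpSch.exists_grpObj_of_mono K.arrow ?_ ?_ ?_
    · refine ⟨K.factorThru (hG.one) ?_, Subobject.factorThru_arrow _ _ _⟩
      have := h.one (𝟙_ (Sheaf J (Type w)))
      rwa [Hom.one_def, toUnit_unique (toUnit _) (𝟙 _), Category.id_comp] at this
    · intro T a b
      exact ⟨K.factorThru _ (h.mul (Subobject.factors_comp_arrow a) (Subobject.factors_comp_arrow b)), by simp⟩
    · intro T a
      exact ⟨K.factorThru _ (h.inv (Subobject.factors_comp_arrow a)), by simp⟩
  · rintro ⟨str, hstr⟩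
    letI := str
    haveI := hstr
    refine ⟨fun T => ?_, fun {T a b} ha hb => ?_, fun {T a} ha => ?_⟩
    · rw [← MonObj.one_comp (X := T) K.arrow]; exact Subobject.factors_comp_arrow _
    · rw [← K.factorThru_arrow a ha, ← K.factorThru_arrow b hb, ← MonObj.mul_comp]
      exact Subobject.factors_comp_arrow _
    · rw [← K.factorThru_arrow a ha, ← GrpObj.inv_comp]
      exact Subobject.factors_comp_arrow _

variable {G Q : Sheaf J (Type w)} [GrpObj G] [GrpObj Q] (π : G ⟶ Q) [IsMonHom π]

theorem isSubgrp_pullback {K' : Subobject Q} (h : IsSubgrp K') :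
    IsSubgrp ((Subobject.pullback π).obj K') where
  one T := by rw [SiteBase.pullback_factors_iff, MonObj.one_comp]; exact h.one T
  mul {T a b} ha hb := by
    rw [SiteBase.pullback_factors_iff] at ha hb ⊢
    rw [MonObj.mul_comp]; exact h.mul ha hb
  inv {T a} ha := by
    rw [SiteBase.pullback_factors_iff] at ha ⊢
    rw [GrpObj.inv_comp]; exact h.inv ha

theorem exists_lift_epi [Epi π] {T : Sheaf J (Type w)} (a : T ⟶ Q) :
    ∃ (T' : Sheaf J (Type w)) (q : T' ⟶ T) (x : T' ⟶ G), Epi q ∧ x ≫ π = q ≫ a :=
  ⟨_, pullback.fst a π, pullback.snd a π, SiteBase.sheaf_epi_pullback_fst a π, pullback.condition.symm⟩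

theorem isSubgrp_of_pullback [Epi π] {K' : Subobject Q}
    (h : IsSubgrp ((Subobject.pullback π).obj K')) : IsSubgrp K' where
  one T := by
    have := h.one T
    rwa [SiteBase.pullback_factors_iff, MonObj.one_comp] at this
  mul {T a b} ha hb := by
    obtain ⟨T₁, q, x, hq, hx⟩ := exists_lift_epi π a
    obtain ⟨T₂, r, y, hr, hy⟩ := exists_lift_epi π (q ≫ b)
    have : Epi (r ≫ q) := epi_comp _ _
    refine SiteBase.factors_of_epi K' (r ≫ q) _ ?_
    have hx' : ((Subobject.pullback π).obj K').Factors (r ≫ x) := by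
      rw [SiteBase.pullback_factors_iff, Category.assoc, hx]
      exact Subobject.factors_of_factors_right _ (Subobject.factors_of_factors_right _ ha)
    have hy' : ((Subobject.pullback π).obj K').Factors y := by
      rw [SiteBase.pullback_factors_iff, hy]
      exact Subobject.factors_of_factors_right _ (Subobject.factors_of_factors_right _ hb)
    have hm := h.mul hx' hy'
    rw [SiteBase.pullback_factors_iff, MonObj.mul_comp, Category.assoc, hx, hy] at hm
    rw [Category.assoc, MonObj.comp_mul, MonObj.comp_mul]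
    exact hm
  inv {T a} ha := by
    obtain ⟨T₁, q, x, hq, hx⟩ := exists_lift_epi π a
    refine SiteBase.factors_of_epi K' q _ ?_
    have hx' : ((Subobject.pullback π).obj K').Factors x := by
      rw [SiteBase.pullback_factors_iff, hx]
      exact Subobject.factors_of_factors_right _ ha
    have hm := h.inv hx'
    rw [SiteBase.pullback_factors_iff, GrpObj.inv_comp, hx] at hm
    rwa [GrpObj.comp_inv]

theorem normal_iff_pullback [Epi π] (K' : Subobject Q) :
    (∀ (Y : Sheaf J (Type w)) (g : Y ⟶ Q) (k : Y ⟶ (K' : Sheaf J (Type w))),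
      ∃ k' : Y ⟶ (K' : Sheaf J (Type w)), g * (k ≫ K'.arrow) * g⁻¹ = k' ≫ K'.arrow) ↔
    (∀ (Y : Sheaf J (Type w)) (g : Y ⟶ G)
        (k : Y ⟶ ((Subobject.pullback π).obj K' : Sheaf J (Type w))),
        ∃ k' : Y ⟶ ((Subobject.pullback π).obj K' : Sheaf J (Type w)),
          g * (k ≫ ((Subobject.pullback π).obj K').arrow) * g⁻¹ =
            k' ≫ ((Subobject.pullback π).obj K').arrow) := by
  constructor
  · intro h Y g k
    have hk : K'.Factors ((k ≫ ((Subobject.pullback π).obj K').arrow) ≫ π) :=
      (SiteBase.pullback_factors_iff π K' _).1 (Subobject.factors_comp_arrow k)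
    obtain ⟨k', hk'⟩ := h Y (g ≫ π) (K'.factorThru _ hk)
    have : ((Subobject.pullback π).obj K').Factors (g * (k ≫ ((Subobject.pullback π).obj K').arrow) * g⁻¹) := by
      rw [SiteBase.pullback_factors_iff, MonObj.mul_comp, MonObj.mul_comp, GrpObj.inv_comp]
      rw [Subobject.factorThru_arrow] at hk'
      rw [hk']
      exact Subobject.factors_comp_arrow _
    exact ⟨_, (Subobject.factorThru_arrow _ _ this).symm⟩
  · intro h Y g k
    obtain ⟨T₁, q, x, hq, hx⟩ := exists_lift_epi π g
    obtain ⟨T₂, r, y, hr, hy⟩ := exists_lift_epi π (q ≫ k ≫ K'.arrow)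
    have hy' : ((Subobject.pullback π).obj K').Factors y := by
      rw [SiteBase.pullback_factors_iff, hy, ← Category.assoc q, ← Category.assoc r]
      exact Subobject.factors_comp_arrow _
    obtain ⟨k', hk'⟩ := h T₂ (r ≫ x) (Subobject.factorThru _ y hy')
    rw [Subobject.factorThru_arrow] at hk'
    have hm : ((Subobject.pullback π).obj K').Factors ((r ≫ x) * y * (r ≫ x)⁻¹) :=
      hk' ▸ Subobject.factors_comp_arrow _
    rw [SiteBase.pullback_factors_iff, MonObj.mul_comp, MonObj.mul_comp, GrpObj.inv_comp,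
      Category.assoc, hx, hy] at hm
    have : Epi (r ≫ q) := epi_comp _ _
    have : K'.Factors (g * (k ≫ K'.arrow) * g⁻¹) := by
      refine SiteBase.factors_of_epi K' (r ≫ q) _ ?_
      simpa only [MonObj.comp_mul, GrpObj.comp_inv, Category.assoc] using hm
    exact ⟨_, (Subobject.factorThru_arrow _ _ this).symm⟩

end Groth.Agent.ShfGrp
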