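import Groth.Agent.SiteBase.ModColimits
import Mathlib.CategoryTheory.Sites.CartesianMonoidal
import Mathlib.CategoryTheory.Monoidal.Closed.Types
import Mathlib.CategoryTheory.Monoidal.Cartesian.FunctorCategory
import Mathlib.CategoryTheory.Monoidal.Cartesian.Grp
import Mathlib.CategoryTheory.Sites.LeftExact

/-! # Quotients of sheaves of groups -/

set_option autoImplicit false
set_option linter.all false
set_option backward.isDefEq.respectTransparency false
set_option backward.defeqAttrib.useBackward true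

universe w v₁ u₁

open CategoryTheory CategoryTheory.Limits MonoidalCategory Opposite
open MonObj CartesianMonoidalCategory SemiCartesianMonoidalCategory

namespace Groth.Agent.ShfGrp

variable {C : Type u₁} [Category.{v₁} C] {J : GrothendieckTopology C}

instance presheaf_tensorLeft_preserves (P : Cᵒᵖ ⥤ Type w) :
    PreservesColimitsOfShape WalkingParallelPair (tensorLeft P) := by
  apply preservesColimitsOfShape_of_evaluation
  intro c
  exact preservesColimitsOfShape_of_natIso
    (NatIso.ofComponents (fun Q => Iso.refl _) (by cat_disch) :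
      (evaluation Cᵒᵖ (Type w)).obj c ⋙ tensorLeft (P.obj c) ≅ tensorLeft P ⋙ (evaluation Cᵒᵖ (Type w)).obj c)

variable [HasSheafify J (Type w)]

theorem sheaf_tensorLeft_preserves (G : Sheaf J (Type w)) :
    PreservesColimitsOfShape WalkingParallelPair (tensorLeft G) := by
  let L := presheafToSheaf J (Type w)
  haveI : PreservesColimitsOfShape WalkingParallelPair L :=
    (sheafificationAdjunction J (Type w)).leftAdjoint_preservesColimits.preservesColimitsOfShape
  let e : tensorLeft G.obj ⋙ L ≅ L ⋙ tensorLeft G :=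
    CartesianMonoidalCategory.prodComparisonNatIso L G.obj ≪≫
      Functor.isoWhiskerLeft L ((tensoringLeft _).mapIso (asIso ((sheafificationAdjunction J (Type w)).counit.app G)))
  haveI : PreservesColimitsOfShape WalkingParallelPair (L ⋙ tensorLeft G) := preservesColimitsOfShape_of_natIso e
  exact SiteBase.preservesColimitsOfShape_of_reflective (sheafificationAdjunction J (Type w)) _ _

theorem existsUnique_action {H G : Sheaf J (Type w)} [hG : GrpObj G] (u : H ⟶ G) :
    ∃! act : G ⊗ coequalizer (fst G H) ((G ◁ u) ≫ hG.mul) ⟶ coequalizer (fst G H) ((G ◁ u) ≫ hG.mul),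
      (hG.one ▷ coequalizer (fst G H) ((G ◁ u) ≫ hG.mul)) ≫ act =
          (λ_ (coequalizer (fst G H) ((G ◁ u) ≫ hG.mul))).hom ∧
        (hG.mul ▷ coequalizer (fst G H) ((G ◁ u) ≫ hG.mul)) ≫ act =
          (α_ G G (coequalizer (fst G H) ((G ◁ u) ≫ hG.mul))).hom ≫ (G ◁ act) ≫ act ∧
        hG.mul ≫ coequalizer.π (fst G H) ((G ◁ u) ≫ hG.mul) =
          (G ◁ coequalizer.π (fst G H) ((G ◁ u) ≫ hG.mul)) ≫ act := by
  haveI := sheaf_tensorLeft_preserves G
  let π := coequalizer.π (fst G H) ((G ◁ u) ≫ hG.mul)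
  have hpe : ∀ Y : Sheaf J (Type w), PreservesColimitsOfShape WalkingParallelPair (tensorLeft Y) := fun Y => sheaf_tensorLeft_preserves Y
  have hepi : ∀ Y : Sheaf J (Type w), Epi (Y ◁ π) := fun Y => by
    haveI := hpe Y
    exact inferInstanceAs (Epi ((tensorLeft Y).map (coequalizer.π _ _)))
  let hcol := isColimitOfHasCoequalizerOfPreservesColimit (tensorLeft G) (fst G H) ((G ◁ u) ≫ hG.mul)
  have hw : (G ◁ fst G H) ≫ hG.mul ≫ π = (G ◁ ((G ◁ u) ≫ hG.mul)) ≫ hG.mul ≫ π := by
    have h1 : ((G ◁ fst G H) ≫ hG.mul) = (α_ G G H).inv ≫ (hG.mul ▷ H) ≫ fst G H := by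
      rw [whiskerRight_fst, ← Category.assoc]
      congr 1
    have h2 : ((G ◁ ((G ◁ u) ≫ hG.mul)) ≫ hG.mul) = (α_ G G H).inv ≫ (hG.mul ▷ H) ≫ (G ◁ u) ≫ hG.mul := by
      rw [← whisker_exchange_assoc, MonObj.mul_assoc]
      simp only [MonoidalCategory.whiskerLeft_comp, Category.assoc, tensor_whiskerLeft, Iso.inv_hom_id_assoc]
    rw [← Category.assoc, h1, ← Category.assoc (G ◁ _), h2]
    simp only [Category.assoc]
    rw [show π = coequalizer.π _ _ from rfl, coequalizer.condition, Category.assoc]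
  let act := Cofork.IsColimit.desc hcol (hG.mul ≫ π) hw
  have hact : hG.mul ≫ π = (G ◁ π) ≫ act := (Cofork.IsColimit.π_desc' hcol _ hw).symm
  refine ⟨act, ⟨?_, ?_, hact⟩, fun a ha => ?_⟩
  · haveI := hepi (𝟙_ _)
    rw [← cancel_epi ((𝟙_ _) ◁ π), whisker_exchange_assoc]
    rw [← hact, ← Category.assoc, MonObj.one_mul, leftUnitor_naturality]
  · haveI := hepi (G ⊗ G)
    rw [← cancel_epi ((G ⊗ G) ◁ π), whisker_exchange_assoc, ← hact, ← Category.assoc, MonObj.mul_assoc]
    rw [← Category.assoc ((G ⊗ G) ◁ π), associator_naturality_right]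
    simp only [Category.assoc]
    rw [← whiskerLeft_comp_assoc, ← hact, whiskerLeft_comp_assoc, ← hact]
  · haveI := hepi G
    rw [← cancel_epi (G ◁ π), ← hact]
    exact ha.2.2.symm

end Groth.Agent.ShfGrp
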