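import Groth.Agent.ShfGrp.Quotient
import Groth.Agent.SiteBase.SetExact
import Mathlib.CategoryTheory.Monoidal.Cartesian.Grp
import Mathlib.Tactic.Group

/-! # The kernel pair of the quotient map of a subgroup sheaf -/

set_option autoImplicit false
set_option linter.all false
set_option backward.isDefEq.respectTransparency false
set_option backward.defeqAttrib.useBackward true

universe w v₁ u₁

open CategoryTheory CategoryTheory.Limits MonoidalCategory Opposite
open MonObj CartesianMonoidalCategory SemiCartesianMonoidalCategory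

namespace Groth.Agent.ShfGrp

variable {C : Type u₁} [Category.{v₁} C] {J : GrothendieckTopology C} [HasSheafify J (Type w)]
  {H G : Sheaf J (Type w)} [hH : GrpObj H] [hG : GrpObj G] (u : H ⟶ G)

omit hH in
theorem lift_act {Y : Sheaf J (Type w)} (x : Y ⟶ G) (h : Y ⟶ H) :
    lift x h ≫ (G ◁ u) ≫ hG.mul = x * (h ≫ u) := by
  rw [lift_whiskerLeft_assoc]; rfl

omit hH in
theorem point_act {Y : Sheaf J (Type w)} (z : Y ⟶ G ⊗ H) :
    z ≫ (G ◁ u) ≫ hG.mul = (z ≫ fst G H) * ((z ≫ snd G H) ≫ u) := by
  rw [← lift_act]
  congr 1

theorem isKernelPair_quotient [Mono u] [IsMonHom u] :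
    IsKernelPair (coequalizer.π (fst G H) ((G ◁ u) ≫ hG.mul)) (fst G H) ((G ◁ u) ≫ hG.mul) := by
  let act : G ⊗ H ⟶ G := (G ◁ u) ≫ hG.mul
  let c : PullbackCone act (fst G H) := pullback.cone act (fst G H)
  let eqv : EquivalenceRelation (fst G H) act :=
    { right_cancellation := fun Y f g h1 h2 => by
        apply CartesianMonoidalCategory.hom_ext _ _ h1
        simp only [act, point_act, h1] at h2
        exact (cancel_mono u).1 (mul_left_cancel h2)
      r := lift (𝟙 G) 1
      reflexivity₁ := lift_fst _ _
      reflexivity₂ := by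
        simp only [act, lift_act]
        rw [MonObj.one_comp, _root_.mul_one]
      s := lift act (snd G H)⁻¹
      symmetry₁ := lift_fst _ _
      symmetry₂ := by
        simp only [act, lift_act]
        rw [GrpObj.inv_comp, ← Category.id_comp ((G ◁ u) ≫ hG.mul), point_act]
        simp only [Category.id_comp]
        group
      c := c
      isLimit := pullback.isLimit _ _
      t := lift (c.fst ≫ fst G H) ((c.fst ≫ snd G H) * (c.snd ≫ snd G H))
      transitivity₁ := lift_fst _ _
      transitivity₂ := by
        simp only [act, lift_act]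
        rw [point_act u c.snd, ← c.condition, point_act u c.fst, MonObj.mul_comp, ← _root_.mul_assoc] }
  obtain ⟨e⟩ := SiteBase.sheaf_effectiveEquivalenceRelation eqv
  let φ := coequalizer.desc e.π e.isKernelPair.w
  refine IsPullback.of_isLimit' ⟨coequalizer.condition _ _⟩ ?_
  refine PullbackCone.IsLimit.mk _ (fun s => e.isKernelPair.lift s.fst s.snd ?_)
    (fun s => e.isKernelPair.lift_fst _ _ _) (fun s => e.isKernelPair.lift_snd _ _ _)
    (fun s m h1 h2 => e.isKernelPair.hom_ext (h1.trans (e.isKernelPair.lift_fst _ _ _).symm) (h2.trans (e.isKernelPair.lift_snd _ _ _).symm))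
  have := s.condition =≫ φ
  simp only [φ, Category.assoc] at this
  erw [coequalizer.π_desc] at this
  exact this

end Groth.Agent.ShfGrp
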